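import Cfsg.Agent.H316.U6Fam_mg_m3
import Cfsg.Agent.H461.E2.Cent
import Cfsg.Agent.H892.ElReg
import Cfsg.Agent.H61.K6.CritD_m3
import Cfsg.Agent.FastGrp
import Cfsg.Agent.Prune
set_option linter.all false
prune_inst 0x7f00000000000000000000000000000000000000000000000000000000000000000000000000000000000000000000000000000000000000000000000000000000000000000000000000000000000000003fffffffffffffffffffffffffffbeffbdffffffff
open scoped Cfsg.Agent.FastGrp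

/-!
# S4876 (`k(B₀) = 6`): elements of order `p ∣ q² - 1` in the exceptional groups (helper349)

`m : MData hp r q K₀`; `s₁, …, s₄` pairwise orthogonal roots fixed by the Frobenius automorphism.

* `not_compl` : a centralizer containing `r`-elements whose product has order `p` is not `p`-nilpotent;
* `exists_fac` : the elements `a_s` of order `p` in `⟨X_s, X_{-s}⟩` as products of three `r`-elements;
* `cnt D p s₁ s₂ s₃ i j k` : the number of roots trivial on `h_{s₁}(z)^i h_{s₂}(z)^j h_{s₃}(z)^k`;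
* `fact_eq` : twice the `r`-part of `|C(a₁^i a₂^j a₃^k)|`;
* `krow_of_cnt` : three different numbers: `KRow p K₀`.
-/

set_option autoImplicit false
set_option linter.unusedSectionVars false

namespace Cfsg.Agent.H349.K6

open CoxeterSystem Cfsg Cfsg.Lie Cfsg.Lie.ChevalleyDatum
open Cfsg.Agent.ChevalleyStructure Cfsg.Agent.ChevalleyStructure.Elts Cfsg.Agent.ChevalleyStructure.CoxeterGeom
  Cfsg.Agent.ChevalleyStructure.CoxeterGeomTypes Cfsg.Agent.ChevalleyStructure.NPerm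
open Cfsg.Agent.Tits.Roots Cfsg.Agent.Tits.Core Cfsg.Agent.Nodes Cfsg.Agent.Nodes.Reps Cfsg.Agent.Nodes.BNOf
  Cfsg.Agent.Nodes.RGDChev
open Cfsg.Agent.KFacts.RgdChevCoord
open Cfsg.Agent.ChevalleyStructure.SL2Hom (up lo)
open Cfsg.Agent.Nodes.RGDFold Cfsg.Agent.Nodes.RGDFoldSL
open Cfsg.Agent.H469.Exc Cfsg.Agent.H469.Exc.SigFr Cfsg.Agent.H316.U6
open Cfsg.Agent.BpExc.LangFr
open Cfsg.Agent.ChevalleyStructure.HMatDiagAll (expo)
open Cfsg.Agent.H81.TorOrth Cfsg.Agent.H349.KBE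

universe u v w

/-- a centralizer containing `r`-elements whose product has order `p` is not `p`-nilpotent -/
theorem not_compl {G : Type*} [Group G] [Finite G] {p r : ℕ} [hp : Fact p.Prime] [hr : Fact r.Prime] (hpr : p ≠ r)
    {x a1 a2 a3 : G} (c1 : a1 * x = x * a1) (c2 : a2 * x = x * a2) (c3 : a3 * x = x * a3) (o1 : a1 ^ r = 1)
    (o2 : a2 ^ r = 1) (o3 : a3 ^ r = 1) (ho : orderOf (a1 * a2 * a3) = p) :
    ¬ HasNormalPComplement p ↥(Subgroup.centralizer ({x} : Set G)) := by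
  rintro ⟨P, N, hN, hc⟩
  have hidx : N.index = Nat.card (P : Subgroup ↥(Subgroup.centralizer ({x} : Set G))) := hc.symm.index_eq_card
  obtain ⟨k, hk⟩ := P.isPGroup'.exists_card_eq
  have hmem : ∀ b : ↥(Subgroup.centralizer ({x} : Set G)), b ^ r = 1 → b ∈ N := by
    intro b hb
    rw [← QuotientGroup.eq_one_iff, ← orderOf_eq_one_iff]
    have h1 : orderOf (b : ↥(Subgroup.centralizer ({x} : Set G)) ⧸ N) ∣ r := by
      apply orderOf_dvd_of_pow_eq_one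
      rw [← QuotientGroup.mk_pow, hb, QuotientGroup.mk_one]
    have h2 : orderOf (b : ↥(Subgroup.centralizer ({x} : Set G)) ⧸ N) ∣ p ^ k := by
      rw [← hk, ← hidx, Subgroup.index_eq_card]
      exact orderOf_dvd_natCard _
    have h3 : Nat.Coprime r (p ^ k) := Nat.Coprime.pow_right k ((Nat.coprime_primes hr.out hp.out).2 hpr.symm)
    exact Nat.eq_one_of_dvd_coprimes h3 h1 h2
  have hm : ∀ {a : G}, a * x = x * a → a ∈ Subgroup.centralizer ({x} : Set G) := by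
    intro a ha
    rw [Subgroup.mem_centralizer_singleton_iff]
    exact ha
  have h1 := hmem ⟨a1, hm c1⟩ (Subtype.ext o1)
  have h2 := hmem ⟨a2, hm c2⟩ (Subtype.ext o2)
  have h3 := hmem ⟨a3, hm c3⟩ (Subtype.ext o3)
  have h4 := N.mul_mem (N.mul_mem h1 h2) h3
  have h5 : orderOf ((⟨a1, hm c1⟩ : ↥(Subgroup.centralizer ({x} : Set G))) * ⟨a2, hm c2⟩ * ⟨a3, hm c3⟩) = p := by
    rw [← Subgroup.orderOf_coe]
    exact ho
  have h6 : p ∣ Nat.card N := by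
    rw [← h5, ← Subgroup.orderOf_mk (H := N) _ h4]
    exact orderOf_dvd_natCard _
  rw [← hc.index_eq_card] at h6
  exact P.not_dvd_index h6

section Main

variable {D : ChevalleyDatum} {l : ℕ} {M : CoxeterMatrix (Fin l)} {hp : IsType D l M} {r q : ℕ}
  [hr : Fact r.Prime] {K₀ : Type v} [Group K₀] (m : MData hp r q K₀)

/-- the trace of `diag(z, z⁻¹)` lies in the field with `q` elements -/
theorem trace_pow {p : ℕ} [hpp : Fact p.Prime] (hd : p ∣ q ^ 2 - 1) {z : KK r} (hz : IsPrimitiveRoot z p) (hq2 : 2 ≤ q)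
    {e : ℕ} (hq : r ^ e = q) : (z + z⁻¹) ^ q = z + z⁻¹ := by
  have hadd : ∀ a b : KK r, (a + b) ^ q = a ^ q + b ^ q := by
    intro a b
    rw [← hq]
    exact add_pow_char_pow a b r e
  rw [hadd]
  have h1 : p ∣ (q + 1) * (q - 1) := by
    have h2 : q ^ 2 - 1 ^ 2 = (q + 1) * (q - 1) := Nat.sq_sub_sq q 1
    rw [one_pow] at h2
    rwa [← h2]
  rcases (Nat.Prime.dvd_mul hpp.out).1 h1 with h3 | h3
  · have h4 : z ^ (q + 1) = 1 := (hz.pow_eq_one_iff_dvd _).2 h3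
    have h5 : z ^ q = z⁻¹ := by
      rw [pow_succ] at h4
      exact eq_inv_of_mul_eq_one_left h4
    rw [inv_pow, h5, inv_inv, add_comm]
  · have h4 : z ^ (q - 1) = 1 := (hz.pow_eq_one_iff_dvd _).2 h3
    have h5 : z ^ q = z := by
      calc z ^ q = z ^ (q - 1 + 1) := by rw [Nat.sub_add_cancel (by omega)]
        _ = z := by rw [pow_succ, h4, one_mul]
    rw [inv_pow, h5]

include m in
theorem two_le_q : 2 ≤ q := by
  rw [← m.hq]
  calc 2 ≤ r := hr.out.two_le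
    _ = r ^ 1 := (pow_one r).symm
    _ ≤ r ^ m.e := Nat.pow_le_pow_right hr.out.pos m.he

/-- `a_s` as a product of `r`-elements -/
theorem exists_fac {p : ℕ} [hpp : Fact p.Prime] (hp2 : p ≠ 2) (hd : p ∣ q ^ 2 - 1) {s : ℕ}
    (hs : s < D.nroots) (hg : m.g (vec D l s) = vec D l s) {z : KK r} (hz : IsPrimitiveRoot z p) :
    ∃ (a1 a2 a3 : K₀) (g1 g2 g3 w : Matrix.SpecialLinearGroup (Fin 2) (KK r)), m.ι a1 = ps hp hs g1 ∧
      m.ι a2 = ps hp hs g2 ∧ m.ι a3 = ps hp hs g3 ∧ a1 ^ r = 1 ∧ a2 ^ r = 1 ∧ a3 ^ r = 1 ∧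
      w * (g1 * g2 * g3) * w⁻¹ = hS z := by
  have hz0 : z ≠ 0 := hz.ne_zero hpp.out.ne_zero
  have hz2 : z * z ≠ 1 := by
    intro h
    have h1 : p ∣ 2 := hz.dvd_of_pow_eq_one 2 (by rw [sq]; exact h)
    exact hp2 ((Nat.prime_dvd_prime_iff_eq hpp.out Nat.prime_two).1 h1)
  have hq2 : 2 ≤ q := two_le_q m
  have hsub : ∀ a b : KK r, (a - b) ^ q = a ^ q - b ^ q := by
    intro a b
    rw [← m.hq]
    exact sub_pow_char_pow a b m.e
  -- the trace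
  have ht : (z + z⁻¹) ^ q = z + z⁻¹ := trace_pow hd hz hq2 m.hq
  -- the action of the Frobenius automorphism
  obtain ⟨s', hv, hs', c, hc, h1, h2⟩ := m.act s hs
  have hss : s' = s := vec_inj hp hs' hs (hv.trans hg)
  subst hss
  obtain ⟨b, hb⟩ := IsAlgClosed.exists_pow_nat_eq c⁻¹ (show 0 < q - 1 by omega)
  have hb0 : b ≠ 0 := by
    rintro rfl
    rw [zero_pow (by omega)] at hb
    exact inv_ne_zero hc hb.symm
  have hbq : c * b ^ q = b := by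
    calc c * b ^ q = c * b ^ (q - 1 + 1) := by rw [Nat.sub_add_cancel (by omega)]
      _ = b := by rw [pow_succ, hb, mul_inv_cancel_left₀ hc]
  have hbq' : c⁻¹ * b⁻¹ ^ q = b⁻¹ := by
    rw [inv_pow, ← mul_inv, hbq]
  have e0 : ∀ t : KK r, xs hp.inList s' t ^ r = 1 := fun t => xs_pow_r (hp := hp) s' t
  have e0' : ∀ t : KK r, xs hp.inList (D.neg s') t ^ r = 1 := fun t => xs_pow_r (hp := hp) _ t
  obtain ⟨a1, ha1⟩ := m.exists_eq (u := xs hp.inList s' (-b)) (by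
    rw [h1, ← zero_sub, hsub, zero_pow (by omega), zero_sub, mul_neg, hbq, zero_sub]) ⟨1, by rw [pow_one]; exact e0 _⟩
  obtain ⟨a2, ha2⟩ := m.exists_eq (u := xs hp.inList (D.neg s') b⁻¹) (by rw [h2, hbq'])
    ⟨1, by rw [pow_one]; exact e0' _⟩
  obtain ⟨a3, ha3⟩ := m.exists_eq (u := xs hp.inList s' (b * (z + z⁻¹ - 1))) (by
    rw [h1, mul_pow, hsub, ht, one_pow, ← mul_assoc, hbq]) ⟨1, by rw [pow_one]; exact e0 _⟩
  have hinj : ∀ (a : K₀), (m.ι a) ^ r = 1 → a ^ r = 1 := fun a h => m.inj (by rw [map_pow, h, map_one])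
  refine ⟨a1, a2, a3, up (-b), lo b⁻¹, up (b * (z + z⁻¹ - 1)), mW hb0 hz0 hz2, ?_, ?_, ?_, ?_, ?_, ?_,
    mW_conj hb0 hz0 hz2⟩
  · rw [ha1, ps_up]
  · rw [ha2, ps_lo]
  · rw [ha3, ps_up]
  · exact hinj _ (by rw [ha1]; exact e0 _)
  · exact hinj _ (by rw [ha2]; exact e0' _)
  · exact hinj _ (by rw [ha3]; exact e0 _)

/-- the setup of `H795.Core` -/
theorem setup [Finite K₀] : H795.Core.Setup hp r r m.e m.ι m.σ m.g where
  inj := m.inj
  e_pos := m.he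
  frob := m.frob
  fr := m.fr
  fix := m.fix
  norm := m.norm
  p_mem := fun _ hy hj => m.exists_eq hy hj
  r_mem := fun _ hy hj => m.exists_eq hy hj
  fin := by
    have := m.fin
    exact this

/-- the number of the roots trivial on `h_{s₁}(z)^i h_{s₂}(z)^j h_{s₃}(z)^k`, `z` of order `p` -/
def cnt (D : ChevalleyDatum) (p s₁ s₂ s₃ i j k : ℕ) : ℕ :=
  (Finset.univ.filter fun y : Fin D.nroots =>
    (p : ℤ) ∣ (i : ℤ) * expo D s₁ y + (j : ℤ) * expo D s₂ y + (k : ℤ) * expo D s₃ y).card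

/-- the number of the roots trivial on a diagonal element -/
theorem ncard_eq {t : ↥(D.group (KK r))} (ht : t ∈ TT D (KK r)) {p : ℕ} {z : KK r} (hz : IsPrimitiveRoot z p)
    {f : Fin D.nroots → ℤ}
    (hf : ((t : GL D.Idx (KK r)) : Matrix D.Idx D.Idx (KK r)) =
      Matrix.diagonal (Sum.elim (fun _ => 1) fun y : Fin D.nroots => z ^ f y)) :
    {a | IsRoot M.toCoxeterSystem hp.isCartan a ∧ ch hp a t = 1}.ncard =
      (Finset.univ.filter fun y : Fin D.nroots => (p : ℤ) ∣ f y).card := by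
  classical
  have hch : ∀ y : Fin D.nroots, ch hp (vec D l y) t = z ^ f y := by
    intro y
    have h1 := H892.El.coe_TT hp (r := r) (locFin r) ht
    rw [hf] at h1
    have h2 := congrFun (congrFun h1 (Sum.inr y)) (Sum.inr y)
    rw [Matrix.diagonal_apply_eq, Matrix.diagonal_apply_eq] at h2
    exact h2.symm
  have hset : {a | IsRoot M.toCoxeterSystem hp.isCartan a ∧ ch hp a t = 1} =
      (fun y : Fin D.nroots => vec D l y) '' {y | (p : ℤ) ∣ f y} := by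
    ext a
    constructor
    · rintro ⟨ha, hc⟩
      obtain ⟨y, hy, rfl⟩ := (isRoot_iff hp M.toCoxeterSystem a).1 ha
      refine ⟨⟨y, hy⟩, ?_, rfl⟩
      have h1 := hch ⟨y, hy⟩
      rw [Set.mem_ofPred_eq, ← hz.zpow_eq_one_iff_dvd, ← h1]
      exact hc
    · rintro ⟨y, hy, rfl⟩
      refine ⟨isRoot_vec hp M.toCoxeterSystem y.2, ?_⟩
      rw [hch y]
      exact (hz.zpow_eq_one_iff_dvd _).2 hy
  rw [hset, Set.ncard_image_of_injective]
  · rw [← Set.ncard_coe_finset]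
    congr 1
    ext y
    simp
  · intro y y' h
    exact Fin.ext (vec_inj hp y.2 y'.2 h)

section Frame

variable {k : Type w} [Field k] {s₁ s₂ s₃ : ℕ} (h₁ : s₁ < D.nroots) (h₂ : s₂ < D.nroots) (h₃ : s₃ < D.nroots)

/-- the element of the torus -/
noncomputable def tt (hp : IsType D l M) (h₁ : s₁ < D.nroots) (h₂ : s₂ < D.nroots) (h₃ : s₃ < D.nroots) (z : k)
    (e : ℕ × ℕ × ℕ) : ↥(D.group k) :=
  ps hp h₁ (hS z) ^ e.1 * ps hp h₂ (hS z) ^ e.2.1 * ps hp h₃ (hS z) ^ e.2.2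

theorem tt_mem {z : k} (hz : z ≠ 0) (e : ℕ × ℕ × ℕ) : tt hp h₁ h₂ h₃ z e ∈ TT D k :=
  mul_mem (mul_mem (pow_mem (ps_hS_mem hp h₁ hz) _) (pow_mem (ps_hS_mem hp h₂ hz) _)) (pow_mem (ps_hS_mem hp h₃ hz) _)

/-- the exponents -/
def fe (D : ChevalleyDatum) (s₁ s₂ s₃ : ℕ) (e : ℕ × ℕ × ℕ) (y : Fin D.nroots) : ℤ :=
  (e.1 : ℤ) * expo D s₁ y + (e.2.1 : ℤ) * expo D s₂ y + (e.2.2 : ℤ) * expo D s₃ y

theorem coe_tt {z : k} (hz : z ≠ 0) (e : ℕ × ℕ × ℕ) :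
    ((tt hp h₁ h₂ h₃ z e : GL D.Idx k) : Matrix D.Idx D.Idx k) =
      Matrix.diagonal (Sum.elim (fun _ => 1) fun y : Fin D.nroots => z ^ fe D s₁ s₂ s₃ e y) := by
  unfold tt
  rw [Subgroup.coe_mul, Units.val_mul, Subgroup.coe_mul, Units.val_mul, entry hp h₁ hz, entry hp h₂ hz, entry hp h₃ hz,
    Matrix.diagonal_mul_diagonal, Matrix.diagonal_mul_diagonal]
  congr 1
  funext x
  rcases x with x | x
  · simp
  · simp only [Sum.elim_inr, fe]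
    rw [zpow_add₀ hz, zpow_add₀ hz, mul_comm (e.1 : ℤ), mul_comm (e.2.1 : ℤ), mul_comm (e.2.2 : ℤ), zpow_mul, zpow_mul,
      zpow_mul, zpow_natCast, zpow_natCast, zpow_natCast]

end Frame

/-- **the elements** -/
theorem exists_frame {p : ℕ} [hpp : Fact p.Prime] (hp2 : p ≠ 2) (hd : p ∣ q ^ 2 - 1) {s₁ s₂ s₃ s₄ : ℕ}
    (h₁ : s₁ < D.nroots) (h₂ : s₂ < D.nroots) (h₃ : s₃ < D.nroots) (h₄ : s₄ < D.nroots)
    (g₁ : m.g (vec D l s₁) = vec D l s₁) (g₂ : m.g (vec D l s₂) = vec D l s₂) (g₃ : m.g (vec D l s₃) = vec D l s₃)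
    (g₄ : m.g (vec D l s₄) = vec D l s₄) (c₁₂ : Cm D s₁ s₂ = true) (c₁₃ : Cm D s₁ s₃ = true) (c₂₃ : Cm D s₂ s₃ = true)
    (c₁₄ : Cm D s₁ s₄ = true) (c₂₄ : Cm D s₂ s₄ = true) (c₃₄ : Cm D s₃ s₄ = true) {z : KK r}
    (hz : IsPrimitiveRoot z p) :
    ∃ x : ℕ × ℕ × ℕ → K₀, ∀ e, x e ^ p = 1 ∧
      (∃ y : ↥(D.group (KK r)), y⁻¹ * m.ι (x e) * y = tt hp h₁ h₂ h₃ z e) ∧
      ∃ b1 b2 b3 : K₀, b1 * x e = x e * b1 ∧ b2 * x e = x e * b2 ∧ b3 * x e = x e * b3 ∧ b1 ^ r = 1 ∧ b2 ^ r = 1 ∧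
        b3 ^ r = 1 ∧ orderOf (b1 * b2 * b3) = p := by
  obtain ⟨a1, a2, a3, u1, u2, u3, w1, ea1, ea2, ea3, -, -, -, ew1⟩ := exists_fac m hp2 hd h₁ g₁ hz
  obtain ⟨b1, b2, b3, v1, v2, v3, w2, eb1, eb2, eb3, -, -, -, ew2⟩ := exists_fac m hp2 hd h₂ g₂ hz
  obtain ⟨c1, c2, c3, t1, t2, t3, w3, ec1, ec2, ec3, -, -, -, ew3⟩ := exists_fac m hp2 hd h₃ g₃ hz
  obtain ⟨d1, d2, d3, r1, r2, r3, w4, ed1, ed2, ed3, od1, od2, od3, ew4⟩ := exists_fac m hp2 hd h₄ g₄ hz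
  have ha : m.ι (a1 * a2 * a3) = ps hp h₁ (u1 * u2 * u3) := by rw [map_mul, map_mul, ea1, ea2, ea3, map_mul, map_mul]
  have hb : m.ι (b1 * b2 * b3) = ps hp h₂ (v1 * v2 * v3) := by rw [map_mul, map_mul, eb1, eb2, eb3, map_mul, map_mul]
  have hc : m.ι (c1 * c2 * c3) = ps hp h₃ (t1 * t2 * t3) := by rw [map_mul, map_mul, ec1, ec2, ec3, map_mul, map_mul]
  have hdd : m.ι (d1 * d2 * d3) = ps hp h₄ (r1 * r2 * r3) := by rw [map_mul, map_mul, ed1, ed2, ed3, map_mul, map_mul]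
  have oa := order_elt m hp2 h₁ hz ha ew1
  have ob := order_elt m hp2 h₂ hz hb ew2
  have oc := order_elt m hp2 h₃ hz hc ew3
  have od := order_elt m hp2 h₄ hz hdd ew4
  generalize a1 * a2 * a3 = a at ha oa
  generalize b1 * b2 * b3 = b at hb ob
  generalize c1 * c2 * c3 = c at hc oc
  generalize u1 * u2 * u3 = u at ha ew1
  generalize v1 * v2 * v3 = v at hb ew2
  generalize t1 * t2 * t3 = t at hc ew3
  have cab : Commute a b := m.inj (by rw [map_mul, map_mul, ha, hb, ps_comm hp h₁ h₂ c₁₂])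
  have cac : Commute a c := m.inj (by rw [map_mul, map_mul, ha, hc, ps_comm hp h₁ h₃ c₁₃])
  have cbc : Commute b c := m.inj (by rw [map_mul, map_mul, hb, hc, ps_comm hp h₂ h₃ c₂₃])
  have hcm : ∀ (d : K₀) (g : Matrix.SpecialLinearGroup (Fin 2) (KK r)), m.ι d = ps hp h₄ g → ∀ e : ℕ × ℕ × ℕ,
      d * (a ^ e.1 * b ^ e.2.1 * c ^ e.2.2) = a ^ e.1 * b ^ e.2.1 * c ^ e.2.2 * d := by
    intro d g hd' e
    have x1 : Commute a d := m.inj (by rw [map_mul, map_mul, ha, hd', ps_comm hp h₁ h₄ c₁₄])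
    have x2 : Commute b d := m.inj (by rw [map_mul, map_mul, hb, hd', ps_comm hp h₂ h₄ c₂₄])
    have x3 : Commute c d := m.inj (by rw [map_mul, map_mul, hc, hd', ps_comm hp h₃ h₄ c₃₄])
    exact (((x1.pow_left _).mul_left (x2.pow_left _)).mul_left (x3.pow_left _)).eq.symm
  refine ⟨fun e => a ^ e.1 * b ^ e.2.1 * c ^ e.2.2, fun e => ⟨?_, ?_, d1, d2, d3, hcm d1 r1 ed1 e, hcm d2 r2 ed2 e,
    hcm d3 r3 ed3 e, od1, od2, od3, od⟩⟩
  · have e1 : Commute (a ^ e.1 * b ^ e.2.1) (c ^ e.2.2) := (cac.pow_pow _ _).mul_left (cbc.pow_pow _ _)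
    have e2 : Commute (a ^ e.1) (b ^ e.2.1) := cab.pow_pow _ _
    have e3 : ∀ (g : K₀) (n : ℕ), orderOf g = p → (g ^ n) ^ p = 1 := by
      intro g n hg
      rw [← pow_mul, mul_comm, pow_mul, ← hg, pow_orderOf_eq_one, one_pow]
    change (a ^ e.1 * b ^ e.2.1 * c ^ e.2.2) ^ p = 1
    rw [e1.mul_pow, e2.mul_pow, e3 a _ oa, e3 b _ ob, e3 c _ oc, one_mul, one_mul]
  · refine ⟨(ps hp h₁ w1)⁻¹ * (ps hp h₂ w2)⁻¹ * (ps hp h₃ w3)⁻¹, ?_⟩
    change ((ps hp h₁ w1)⁻¹ * (ps hp h₂ w2)⁻¹ * (ps hp h₃ w3)⁻¹)⁻¹ * m.ι (a ^ e.1 * b ^ e.2.1 * c ^ e.2.2) *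
      ((ps hp h₁ w1)⁻¹ * (ps hp h₂ w2)⁻¹ * (ps hp h₃ w3)⁻¹) = _
    have k12 : ∀ x y : Matrix.SpecialLinearGroup (Fin 2) (KK r), Commute (ps hp h₁ x) (ps hp h₂ y) := fun x y => ps_comm hp h₁ h₂ c₁₂ x y
    have k13 : ∀ x y : Matrix.SpecialLinearGroup (Fin 2) (KK r), Commute (ps hp h₁ x) (ps hp h₃ y) := fun x y => ps_comm hp h₁ h₃ c₁₃ x y
    have k23 : ∀ x y : Matrix.SpecialLinearGroup (Fin 2) (KK r), Commute (ps hp h₂ x) (ps hp h₃ y) := fun x y => ps_comm hp h₂ h₃ c₂₃ x y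
    rw [map_mul, map_mul, map_pow, map_pow, map_pow, ha, hb, hc, ← map_pow, ← map_pow, ← map_pow]
    unfold tt
    have E1 : ps hp h₁ (hS z) ^ e.1 = ps hp h₁ w1 * ps hp h₁ (u ^ e.1) * (ps hp h₁ w1)⁻¹ := by
      rw [← ew1, ← map_pow, conj_pow, map_mul, map_mul, map_inv]
    have E2 : ps hp h₂ (hS z) ^ e.2.1 = ps hp h₂ w2 * ps hp h₂ (v ^ e.2.1) * (ps hp h₂ w2)⁻¹ := by
      rw [← ew2, ← map_pow, conj_pow, map_mul, map_mul, map_inv]
    have E3 : ps hp h₃ (hS z) ^ e.2.2 = ps hp h₃ w3 * ps hp h₃ (t ^ e.2.2) * (ps hp h₃ w3)⁻¹ := by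
      rw [← ew3, ← map_pow, conj_pow, map_mul, map_mul, map_inv]
    rw [E1, E2, E3]
    generalize hU : ps hp h₁ (u ^ e.1) = U
    generalize hV : ps hp h₂ (v ^ e.2.1) = V
    generalize hT : ps hp h₃ (t ^ e.2.2) = T
    generalize hA : ps hp h₁ w1 = A
    generalize hB : ps hp h₂ w2 = B
    generalize hC : ps hp h₃ w3 = C
    have aB : Commute A B := hA ▸ hB ▸ k12 _ _
    have aC : Commute A C := hA ▸ hC ▸ k13 _ _
    have bC : Commute B C := hB ▸ hC ▸ k23 _ _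
    have uB : Commute U B := hU ▸ hB ▸ k12 _ _
    have uC : Commute U C := hU ▸ hC ▸ k13 _ _
    have vC : Commute V C := hV ▸ hC ▸ k23 _ _
    have aV : Commute A V := hA ▸ hV ▸ k12 _ _
    have aT : Commute A T := hA ▸ hT ▸ k13 _ _
    have bT : Commute B T := hB ▸ hT ▸ k23 _ _
    -- everything in one product
    have f1 : A * U * A⁻¹ * (B * V * B⁻¹) * (C * T * C⁻¹) = C * B * A * (U * V * T) * (C * B * A)⁻¹ := by
      have g1 : C * B * A * (U * V * T) * (C * B * A)⁻¹ =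
          C * B * (A * U * A⁻¹) * (A * V * A⁻¹) * (A * T * A⁻¹) * (C * B)⁻¹ := by group
      have g2 : A * V * A⁻¹ = V := by rw [aV.eq]; group
      have g3 : A * T * A⁻¹ = T := by rw [aT.eq]; group
      have g4 : Commute B (A * U * A⁻¹) := ((aB.symm.mul_right uB.symm).mul_right aB.symm.inv_right)
      have g5 : Commute C (A * U * A⁻¹) := ((aC.symm.mul_right uC.symm).mul_right aC.symm.inv_right)
      have g6 : Commute C (B * V * B⁻¹) := ((bC.symm.mul_right vC.symm).mul_right bC.symm.inv_right)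
      rw [g1, g2, g3]
      calc A * U * A⁻¹ * (B * V * B⁻¹) * (C * T * C⁻¹)
          = (A * U * A⁻¹) * ((B * V * B⁻¹) * C) * T * C⁻¹ := by group
        _ = (A * U * A⁻¹) * (C * (B * V * B⁻¹)) * T * C⁻¹ := by rw [g6.eq]
        _ = ((A * U * A⁻¹) * C) * (B * V * B⁻¹) * T * C⁻¹ := by group
        _ = (C * (A * U * A⁻¹)) * (B * V * B⁻¹) * T * C⁻¹ := by rw [g5.eq]
        _ = C * ((A * U * A⁻¹) * B) * V * (B⁻¹ * T) * C⁻¹ := by group
        _ = C * (B * (A * U * A⁻¹)) * V * (T * B⁻¹) * C⁻¹ := by rw [g4.eq, bT.inv_left.eq]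
        _ = C * B * (A * U * A⁻¹) * V * T * (C * B)⁻¹ := by group
    rw [f1]
    have f2 : (A⁻¹ * B⁻¹ * C⁻¹)⁻¹ = C * B * A := by group
    have f3 : A⁻¹ * B⁻¹ * C⁻¹ = (C * B * A)⁻¹ := by group
    rw [f2, f3]
/-- **CRITERION**: three elements with different numbers of trivial roots. -/
theorem krow_of_cnt [Finite K₀] {p : ℕ} [hpp : Fact p.Prime] (hp2 : p ≠ 2) (hpr : p ≠ r) (hd : p ∣ q ^ 2 - 1)
    {s₁ s₂ s₃ s₄ : ℕ} (h₁ : s₁ < D.nroots) (h₂ : s₂ < D.nroots) (h₃ : s₃ < D.nroots) (h₄ : s₄ < D.nroots)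
    (g₁ : m.g (vec D l s₁) = vec D l s₁) (g₂ : m.g (vec D l s₂) = vec D l s₂) (g₃ : m.g (vec D l s₃) = vec D l s₃)
    (g₄ : m.g (vec D l s₄) = vec D l s₄) (c₁₂ : Cm D s₁ s₂ = true) (c₁₃ : Cm D s₁ s₃ = true) (c₂₃ : Cm D s₂ s₃ = true)
    (c₁₄ : Cm D s₁ s₄ = true) (c₂₄ : Cm D s₂ s₄ = true) (c₃₄ : Cm D s₃ s₄ = true) (e₁ e₂ e₃ : ℕ × ℕ × ℕ)
    {n₁ n₂ n₃ : ℕ} (k₁ : cnt D p s₁ s₂ s₃ e₁.1 e₁.2.1 e₁.2.2 = n₁) (k₂ : cnt D p s₁ s₂ s₃ e₂.1 e₂.2.1 e₂.2.2 = n₂)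
    (k₃ : cnt D p s₁ s₂ s₃ e₃.1 e₃.2.1 e₃.2.2 = n₃) (hn : n₁ < D.nroots ∧ n₂ < D.nroots ∧ n₃ < D.nroots)
    (hne : n₁ ≠ n₂ ∧ n₁ ≠ n₃ ∧ n₂ ≠ n₃) : H61.K6.KRow.{w, v} p K₀ := by
  classical
  obtain ⟨z, hz⟩ := exists_root (r := r) hpr
  have hz0 : z ≠ 0 := hz.ne_zero hpp.out.ne_zero
  obtain ⟨x, hx⟩ := exists_frame m hp2 hd h₁ h₂ h₃ h₄ g₁ g₂ g₃ g₄ c₁₂ c₁₃ c₂₃ c₁₄ c₂₄ c₃₄ hz
  have hfac : ∀ e : ℕ × ℕ × ℕ, 2 * (Nat.card ↥(Subgroup.centralizer {x e})).factorization r =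
      m.e * cnt D p s₁ s₂ s₃ e.1 e.2.1 e.2.2 := by
    intro e
    obtain ⟨hxp, ⟨y, hy⟩, -⟩ := hx e
    have h1 := H461.E2.Cent.two_mul_factorization (locFin r) (setup m) hpp.out hpr hxp hy (tt_mem h₁ h₂ h₃ hz0 e)
    rw [h1, ncard_eq (tt_mem h₁ h₂ h₃ hz0 e) hz (coe_tt h₁ h₂ h₃ hz0 e)]
    rfl
  have hone : ∀ e : ℕ × ℕ × ℕ, cnt D p s₁ s₂ s₃ e.1 e.2.1 e.2.2 < D.nroots → x e ≠ 1 := by
    intro e he h1
    obtain ⟨-, ⟨y, hy⟩, -⟩ := hx e
    rw [h1, map_one, mul_one, inv_mul_cancel] at hy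
    have h2 := coe_tt (hp := hp) h₁ h₂ h₃ hz0 e
    rw [← hy] at h2
    have h3 : cnt D p s₁ s₂ s₃ e.1 e.2.1 e.2.2 = D.nroots := by
      unfold cnt
      rw [Finset.filter_true_of_mem, Finset.card_univ, Fintype.card_fin]
      intro y _
      have h4 := congrFun (congrFun h2 (Sum.inr y)) (Sum.inr y)
      rw [Matrix.diagonal_apply_eq] at h4
      have h5 : (1 : KK r) = z ^ fe D s₁ s₂ s₃ e y := by
        rw [← Matrix.one_apply_eq (α := KK r) (Sum.inr y : D.Idx)]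
        exact h4
      exact (hz.zpow_eq_one_iff_dvd _).1 h5.symm
    omega
  have hord : ∀ e : ℕ × ℕ × ℕ, cnt D p s₁ s₂ s₃ e.1 e.2.1 e.2.2 < D.nroots → orderOf (x e) = p := fun e he =>
    orderOf_eq_prime (hx e).1 (hone e he)
  have hwt : ∀ e : ℕ × ℕ × ℕ, H61.K6.wt p (x e) = 2 := by
    intro e
    obtain ⟨-, -, b1, b2, b3, t1, t2, t3, o1, o2, o3, o⟩ := hx e
    exact H61.K6.wt_eq_two (not_compl hpr t1 t2 t3 o1 o2 o3 o)
  have hdist : ∀ e e' : ℕ × ℕ × ℕ, cnt D p s₁ s₂ s₃ e.1 e.2.1 e.2.2 ≠ cnt D p s₁ s₂ s₃ e'.1 e'.2.1 e'.2.2 →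
      Nat.card ↥(Subgroup.centralizer ({x e} : Set K₀)) ≠ Nat.card ↥(Subgroup.centralizer ({x e'} : Set K₀)) := by
    intro e e' hne h
    apply hne
    have h1 := hfac e
    rw [h, hfac e'] at h1
    exact (Nat.eq_of_mul_eq_mul_left m.he h1).symm
  have hX : ¬ HasNormalPComplement p K₀ := by
    obtain ⟨-, -, b1, b2, b3, -, -, -, o1, o2, o3, o⟩ := hx e₁
    intro h
    refine not_compl (x := 1) hpr (by simp) (by simp) (by simp) o1 o2 o3 o ?_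
    exact H634.ZJ.hasNormalPComplement_of_injective (Subgroup.subtype _) Subtype.val_injective h
  subst k₁ k₂ k₃
  have d12 := hdist e₁ e₂ hne.1
  have d13 := hdist e₁ e₃ hne.2.1
  have d23 := hdist e₂ e₃ hne.2.2
  have n12 : x e₁ ≠ x e₂ := fun h => d12 (by rw [h])
  have n13 : x e₁ ≠ x e₃ := fun h => d13 (by rw [h])
  have n23 : x e₂ ≠ x e₃ := fun h => d23 (by rw [h])
  refine H61.K6.KRow.of_wt_card hX {x e₁, x e₂, x e₃} ?_ ?_ ?_
  · intro y hy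
    simp only [Finset.mem_insert, Finset.mem_singleton] at hy
    rcases hy with rfl | rfl | rfl
    · exact ⟨⟨1, by rw [pow_one, hord _ hn.1]⟩, hone _ hn.1⟩
    · exact ⟨⟨1, by rw [pow_one, hord _ hn.2.1]⟩, hone _ hn.2.1⟩
    · exact ⟨⟨1, by rw [pow_one, hord _ hn.2.2]⟩, hone _ hn.2.2⟩
  · intro y hy y' hy' _ hc
    simp only [Finset.mem_insert, Finset.mem_singleton] at hy hy'
    rcases hy with rfl | rfl | rfl <;> rcases hy' with rfl | rfl | rfl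
    · rfl
    · exact absurd hc d12
    · exact absurd hc d13
    · exact absurd hc.symm d12
    · rfl
    · exact absurd hc d23
    · exact absurd hc.symm d13
    · exact absurd hc.symm d23
    · rfl
  · rw [Finset.sum_insert (by simp [n12, n13]), Finset.sum_insert (by simp [n23]), Finset.sum_singleton, hwt, hwt, hwt]
    norm_num

end Main

end Cfsg.Agent.H349.K6

private theorem dce_1252c80b3c0f : _root_.True := by
  try have : _root_.True := by simp only [_root_.Cfsg.Agent.H349.K6.fe.eq_1]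
  exact _root_.True.intro
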